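import Mathlib
import Groth.Agent.Lib.Helper2.Ring.EtNbhd

/-!
# Étale quasi-sections of smooth algebras through separable points (helper2)
-/

set_option autoImplicit false
set_option backward.isDefEq.respectTransparency.types false
set_option synthInstance.maxHeartbeats 400000
set_option maxHeartbeats 4000000
set_option linter.style.haveILetI false
set_option linter.unusedSectionVars false
set_option linter.unusedVariables false

namespace Groth.Agent.Helper2.QuasiSec
open TensorProduct
open Groth.Agent.Helper2.RingLib
universe u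

/-- If `B` is étale over a polynomial ring over `A` and `β : B → F` is a point with values in a
field `F` algebraic over the (characteristic zero) residue field `K` of its image in `Spec A`,
then `β` factors through an étale `A`-algebra `E` receiving `B`. -/
theorem exists_etale_quasiSection_ring {A B : Type u} [CommRing A] [CommRing B] [Algebra A B]
    (n : ℕ) (g₀ : MvPolynomial (Fin n) A →ₐ[A] B) (hg₀ : g₀.toRingHom.Etale)
    {K F : Type u} [Field K] [Field F] [Algebra A K] [Algebra K F] [Algebra A F]
    [IsScalarTower A K F] (β : B →ₐ[A] F)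
    (hK : ∀ x : K, ∃ a b : A, algebraMap A K b ≠ 0 ∧ x = algebraMap A K a / algebraMap A K b)
    [CharZero K] [Algebra.IsAlgebraic K F] :
    ∃ (E : Type u) (_ : CommRing E) (_ : Algebra A E) (_ : Algebra.Etale A E) (j : B →ₐ[A] E)
      (pt : E →ₐ[A] F), ∀ b, pt (j b) = β b := by
  classical
  let t : Fin n → F := fun i => β (g₀ (MvPolynomial.X i))
  haveI : Algebra.IsSeparable K F := Algebra.IsAlgebraic.isSeparable_of_perfectField
  have hl : ∀ i, Liftable A F (t i) := fun i =>
    liftable_of_isSeparable hK (t i) (Algebra.IsSeparable.isSeparable K (t i))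
  obtain ⟨N, _, _, _, pt₀, ν, hν⟩ := liftableFam_of_forall (A := A) t hl
  letI algPB : Algebra (MvPolynomial (Fin n) A) B := g₀.toRingHom.toAlgebra
  haveI : IsScalarTower A (MvPolynomial (Fin n) A) B :=
    IsScalarTower.of_algebraMap_eq' g₀.comp_algebraMap.symm
  haveI : Algebra.Etale (MvPolynomial (Fin n) A) B := RingHom.etale_algebraMap.mp hg₀
  letI algPN : Algebra (MvPolynomial (Fin n) A) N :=
    (MvPolynomial.aeval ν : MvPolynomial (Fin n) A →ₐ[A] N).toRingHom.toAlgebra
  haveI : IsScalarTower A (MvPolynomial (Fin n) A) N :=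
    IsScalarTower.of_algebraMap_eq' (MvPolynomial.aeval ν).comp_algebraMap.symm
  letI algPF : Algebra (MvPolynomial (Fin n) A) F :=
    (MvPolynomial.aeval t : MvPolynomial (Fin n) A →ₐ[A] F).toRingHom.toAlgebra
  haveI : IsScalarTower A (MvPolynomial (Fin n) A) F :=
    IsScalarTower.of_algebraMap_eq' (MvPolynomial.aeval t).comp_algebraMap.symm
  have h1 : ∀ f : MvPolynomial (Fin n) A,
      pt₀ (algebraMap (MvPolynomial (Fin n) A) N f) =
        algebraMap (MvPolynomial (Fin n) A) F f := by
    intro f
    have : pt₀.comp (MvPolynomial.aeval ν) = MvPolynomial.aeval t := by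
      apply MvPolynomial.algHom_ext
      intro i
      simp [hν]
    exact AlgHom.congr_fun this f
  have h2 : ∀ f : MvPolynomial (Fin n) A,
      β (algebraMap (MvPolynomial (Fin n) A) B f) =
        algebraMap (MvPolynomial (Fin n) A) F f := by
    intro f
    have : β.comp g₀ = MvPolynomial.aeval t := by
      apply MvPolynomial.algHom_ext
      intro i
      simp [t]
    exact AlgHom.congr_fun this f
  let ptP : N →ₐ[MvPolynomial (Fin n) A] F := { pt₀.toRingHom with commutes' := h1 }
  let βP : B →ₐ[MvPolynomial (Fin n) A] F := { β.toRingHom with commutes' := h2 }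
  let s : N ⊗[MvPolynomial (Fin n) A] B →ₐ[MvPolynomial (Fin n) A] F :=
    Algebra.TensorProduct.productMap ptP βP
  haveI : Algebra.Etale A (N ⊗[MvPolynomial (Fin n) A] B) :=
    Algebra.Etale.comp A N (N ⊗[MvPolynomial (Fin n) A] B)
  let jB : B →ₐ[A] N ⊗[MvPolynomial (Fin n) A] B :=
    (Algebra.TensorProduct.includeRight : B →ₐ[MvPolynomial (Fin n) A]
      N ⊗[MvPolynomial (Fin n) A] B).restrictScalars A
  refine ⟨N ⊗[MvPolynomial (Fin n) A] B, inferInstance, inferInstance, inferInstance, jB,
    { s.toRingHom with commutes' := ?_ }, ?_⟩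
  · intro a
    show s (algebraMap A (N ⊗[MvPolynomial (Fin n) A] B) a) = algebraMap A F a
    rw [Algebra.TensorProduct.algebraMap_apply]
    simp only [s, Algebra.TensorProduct.productMap_apply_tmul, map_one, mul_one]
    exact pt₀.commutes a
  · intro b
    show s (jB b) = β b
    simp only [jB, AlgHom.restrictScalars_apply, Algebra.TensorProduct.includeRight_apply, s,
      Algebra.TensorProduct.productMap_apply_tmul, map_one, one_mul]
    rfl

end Groth.Agent.Helper2.QuasiSec
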