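import Mathlib
import Groth.Prelude.Def_CInt
import Groth.Agent.Lib.Helper2.Sch.QuasiSec.Alg
import Groth.Agent.Lib.Helper2.Sch.SchDenseFlat
import Groth.Agent.Lib.Helper4.NeronTfae1

/-!
# Étale quasi-sections of smooth morphisms through points algebraic over the base (helper2)
and the uniqueness half of the Néron mapping property from the weak one (S13422).
-/

set_option autoImplicit false
set_option backward.isDefEq.respectTransparency.types false
set_option synthInstance.maxHeartbeats 400000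
set_option maxHeartbeats 4000000
set_option linter.style.haveILetI false
set_option linter.unusedSectionVars false
set_option linter.unusedVariables false

universe u
open CategoryTheory CategoryTheory.Limits AlgebraicGeometry TopologicalSpace Opposite

namespace Groth.Agent.Helper2.QuasiSec

/-- Elements of the residue field at a point of an affine open are fractions of sections. -/
theorem exists_frac_evaluation {S : Scheme.{u}} {U : S.Opens} (hU : IsAffineOpen U) (s : S)
    (hs : s ∈ U) (x : S.residueField s) :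
    ∃ a b : Γ(S, U), (S.evaluation U s hs).hom b ≠ 0 ∧
      x = (S.evaluation U s hs).hom a / (S.evaluation U s hs).hom b := by
  obtain ⟨y, rfl⟩ := S.residue_surjective s x
  letI := S.presheaf.algebra_section_stalk ⟨s, hs⟩
  haveI := hU.isLocalization_stalk ⟨s, hs⟩
  obtain ⟨⟨a, b⟩, hab⟩ := IsLocalization.surj (hU.primeIdealOf ⟨s, hs⟩).asIdeal.primeCompl y
  have hb : IsUnit (algebraMap Γ(S, U) (S.presheaf.stalk s) b) :=
    IsLocalization.map_units _ b
  have hb' : (S.evaluation U s hs).hom b.1 ≠ 0 := by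
    have : IsUnit ((S.residue s).hom (algebraMap Γ(S, U) (S.presheaf.stalk s) b)) := hb.map _
    exact this.ne_zero
  refine ⟨a, b, hb', ?_⟩
  rw [eq_div_iff hb']
  have := congrArg (S.residue s).hom hab
  rw [map_mul] at this
  exact this

/-- Étale quasi-sections of a smooth morphism through a field-valued point which is algebraic
over the residue field of the base (characteristic zero). -/
theorem exists_etale_quasiSection {Z S : Scheme.{u}} (f : Z ⟶ S) [Smooth f]
    {F : Type u} [Field F] (ζ : Spec (CommRingCat.of F) ⟶ Z) (s : S)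
    (φ : S.residueField s ⟶ CommRingCat.of F)
    (hφ : ζ ≫ f = Spec.map φ ≫ S.fromSpecResidueField s)
    [CharZero (S.residueField s)] (halg : φ.hom.IsIntegral) :
    ∃ (S' : Scheme.{u}) (h : S' ⟶ S) (u : S' ⟶ Z) (ζ' : Spec (CommRingCat.of F) ⟶ S'),
      Etale h ∧ u ≫ f = h ∧ ζ' ≫ u = ζ := by
  let pt : Spec (CommRingCat.of F) := IsLocalRing.closedPoint F
  have hfx : f (ζ pt) = s := by
    have h1 : (ζ ≫ f) pt = (Spec.map φ ≫ S.fromSpecResidueField s) pt := by rw [hφ]
    rw [Scheme.Hom.comp_apply, Scheme.Hom.comp_apply, Scheme.fromSpecResidueField_apply] at h1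
    exact h1
  obtain ⟨U, hU, V, hV, hxV, e, hstd⟩ := Smooth.exists_isStandardSmooth f (ζ pt)
  obtain ⟨n, g₀, hg₀C, hg₀et⟩ := hstd.exists_etale_mvPolynomial
  have hsU : s ∈ U := hfx ▸ e hxV
  have hrange : Set.range ζ ⊆ Set.range hV.fromSpec := by
    rintro _ ⟨p, rfl⟩
    have : p = pt := Subsingleton.elim _ _
    rw [hV.range_fromSpec, this]
    exact hxV
  let ζV : Spec (CommRingCat.of F) ⟶ Spec Γ(Z, V) := IsOpenImmersion.lift hV.fromSpec ζ hrange
  have hζV : ζV ≫ hV.fromSpec = ζ := IsOpenImmersion.lift_fac _ _ _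
  let β₀ : Γ(Z, V) ⟶ CommRingCat.of F := Spec.preimage ζV
  have hβ₀ : Spec.map β₀ = ζV := Spec.map_preimage _
  have h1 : Spec.map (S.evaluation U s hsU) ≫ hU.fromSpec = S.fromSpecResidueField s := by
    rw [← Scheme.germ_residue, Spec.map_comp, Category.assoc]
    show _ ≫ hU.fromSpecStalk hsU = _
    rw [hU.fromSpecStalk_eq_fromSpecStalk]
    rfl
  have hring : S.evaluation U s hsU ≫ φ = f.appLE U V e ≫ β₀ := by
    apply Spec.map_injective
    rw [Spec.map_comp, Spec.map_comp, hβ₀, ← cancel_mono hU.fromSpec, Category.assoc,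
      Category.assoc, h1, IsAffineOpen.SpecMap_appLE_fromSpec f hU hV e, ← Category.assoc, hζV,
      hφ]
  letI : Algebra Γ(S, U) Γ(Z, V) := (f.appLE U V e).hom.toAlgebra
  letI : Algebra Γ(S, U) (S.residueField s) := (S.evaluation U s hsU).hom.toAlgebra
  letI : Algebra (S.residueField s) F := φ.hom.toAlgebra
  letI : Algebra Γ(S, U) F := (β₀.hom.comp (f.appLE U V e).hom).toAlgebra
  haveI : IsScalarTower Γ(S, U) (S.residueField s) F := IsScalarTower.of_algebraMap_eq' (by
    show β₀.hom.comp (f.appLE U V e).hom = φ.hom.comp (S.evaluation U s hsU).hom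
    rw [← CommRingCat.hom_comp, ← CommRingCat.hom_comp, hring])
  let g₀' : MvPolynomial (Fin n) Γ(S, U) →ₐ[Γ(S, U)] Γ(Z, V) :=
    { g₀ with
      commutes' := fun a => by
        have := congrArg (fun ψ => ψ a) hg₀C
        exact this }
  let β : Γ(Z, V) →ₐ[Γ(S, U)] F := { β₀.hom with commutes' := fun a => rfl }
  haveI : Algebra.IsAlgebraic (S.residueField s) F := by
    haveI : Algebra.IsIntegral (S.residueField s) F := ⟨halg⟩
    exact Algebra.IsIntegral.isAlgebraic
  obtain ⟨E, _, _, _, j, ptE, hj⟩ := exists_etale_quasiSection_ring n g₀' hg₀et β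
    (exists_frac_evaluation hU s hsU)
  refine ⟨Spec (CommRingCat.of E),
    Spec.map (CommRingCat.ofHom (algebraMap Γ(S, U) E)) ≫ hU.fromSpec,
    Spec.map (CommRingCat.ofHom j.toRingHom) ≫ hV.fromSpec,
    Spec.map (CommRingCat.ofHom ptE.toRingHom), ?_, ?_, ?_⟩
  · haveI : Etale (Spec.map (CommRingCat.ofHom (algebraMap Γ(S, U) E))) :=
      (HasRingHomProperty.Spec_iff (P := @Etale)).mpr
        (RingHom.etale_algebraMap.mpr inferInstance)
    infer_instance
  · rw [Category.assoc, ← IsAffineOpen.SpecMap_appLE_fromSpec f hU hV e, ← Category.assoc,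
      ← Spec.map_comp]
    congr 2
    ext a
    exact j.commutes a
  · rw [← Category.assoc, ← Spec.map_comp, ← hζV, ← hβ₀]
    congr 2
    ext b
    exact hj b

/-- Two morphisms agreeing on a schematically dense open and at a point agree near the point. -/
theorem exists_open_eq {Q Y S : Scheme.{u}} (f : Q ⟶ S) (U : S.Opens)
    (hdense : CInt.IsSchematicallyDense (f ⁻¹ᵁ U)) (a b : Q ⟶ Y)
    (hab : (f ⁻¹ᵁ U).ι ≫ a = (f ⁻¹ᵁ U).ι ≫ b) (q : Q) (hq : a q = b q) :
    ∃ W : Q.Opens, q ∈ W ∧ W.ι ≫ a = W.ι ≫ b := by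
  obtain ⟨Y', hY', hqY'⟩ : ∃ Y' : Y.Opens, IsAffineOpen Y' ∧ a q ∈ Y' := by
    obtain ⟨_, ⟨O, hO, rfl⟩, hxO, -⟩ := Y.isBasis_affineOpens.exists_subset_of_mem_open
      (Set.mem_univ (a q)) isOpen_univ
    exact ⟨O, hO, hxO⟩
  let W : Q.Opens := a ⁻¹ᵁ Y' ⊓ b ⁻¹ᵁ Y'
  have hqW : q ∈ W := ⟨hqY', by show b q ∈ Y'; rw [← hq]; exact hqY'⟩
  have hra : Set.range (W.ι ≫ a) ⊆ Set.range Y'.ι := by
    rw [Scheme.Opens.range_ι]
    rintro _ ⟨w, rfl⟩
    exact w.2.1
  have hrb : Set.range (W.ι ≫ b) ⊆ Set.range Y'.ι := by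
    rw [Scheme.Opens.range_ι]
    rintro _ ⟨w, rfl⟩
    exact w.2.2
  let a' : W.toScheme ⟶ Y'.toScheme := IsOpenImmersion.lift Y'.ι (W.ι ≫ a) hra
  let b' : W.toScheme ⟶ Y'.toScheme := IsOpenImmersion.lift Y'.ι (W.ι ≫ b) hrb
  have ha' : a' ≫ Y'.ι = W.ι ≫ a := IsOpenImmersion.lift_fac _ _ _
  have hb' : b' ≫ Y'.ι = W.ι ≫ b := IsOpenImmersion.lift_fac _ _ _
  haveI : IsAffine Y'.toScheme := hY'
  have hD := Groth.Agent.Lib.Helper4.NeronTfae1.injective_res_opens f U hdense W
  have heq : a' = b' := by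
    apply Groth.Agent.Lib.Helper4.NeronTfae1.eq_of_restrict_eq_of_isAffine a' b'
      (W.ι ⁻¹ᵁ (f ⁻¹ᵁ U)) hD
    rw [← cancel_mono Y'.ι, Category.assoc, Category.assoc, ha', hb']
    have hr : Set.range ((W.ι ⁻¹ᵁ (f ⁻¹ᵁ U)).ι ≫ W.ι) ⊆ Set.range (f ⁻¹ᵁ U).ι := by
      rw [Scheme.Opens.range_ι]
      rintro _ ⟨w, rfl⟩
      exact w.2
    have hfac := IsOpenImmersion.lift_fac (f ⁻¹ᵁ U).ι ((W.ι ⁻¹ᵁ (f ⁻¹ᵁ U)).ι ≫ W.ι) hr
    rw [← Category.assoc, ← Category.assoc, ← hfac, Category.assoc, Category.assoc, hab]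
  exact ⟨W, hqW, by rw [← ha', ← hb', heq]⟩

end Groth.Agent.Helper2.QuasiSec
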