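import Mathlib
import Groth.Prelude.Def_CInt
import Groth.Agent.Lib.Helper2.Sch.QuasiSec.Geo

/-!
# Weak Néron mapping property implies uniqueness of extensions from smooth schemes (S13422)
-/

set_option autoImplicit false
set_option backward.isDefEq.respectTransparency.types false
set_option synthInstance.maxHeartbeats 400000
set_option maxHeartbeats 4000000
set_option linter.style.haveILetI false
set_option linter.unusedSectionVars false
set_option linter.unusedVariables false

universe u
open CategoryTheory CategoryTheory.Limits AlgebraicGeometry TopologicalSpace Opposite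

namespace Groth.Agent.Helper2.QuasiSec

theorem fst_comp_left_eq {S : Scheme.{u}} (S₀ : S.Opens) {Y N : Over S} (a b : Y ⟶ N)
    (h : (Over.pullback S₀.ι).map a = (Over.pullback S₀.ι).map b) :
    pullback.fst Y.hom S₀.ι ≫ a.left = pullback.fst Y.hom S₀.ι ≫ b.left := by
  have ha : ((Over.pullback S₀.ι).map a).left ≫ pullback.fst N.hom S₀.ι =
      pullback.fst Y.hom S₀.ι ≫ a.left := pullback.lift_fst _ _ _
  have hb : ((Over.pullback S₀.ι).map b).left ≫ pullback.fst N.hom S₀.ι =
      pullback.fst Y.hom S₀.ι ≫ b.left := pullback.lift_fst _ _ _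
  rw [← ha, ← hb, h]

theorem isCompact_inf_of_isLocallyNoetherian {S : Scheme.{u}} [IsLocallyNoetherian S]
    (S₀ : S.Opens) (O : S.affineOpens) : IsCompact ((O.1 ⊓ S₀ : S.Opens) : Set S) := by
  haveI : IsNoetherianRing Γ(S, O.1) := IsLocallyNoetherian.component_noetherian O
  have hN : NoetherianSpace ((O.1 : S.Opens) : Set S) :=
    noetherianSpace_of_isAffineOpen O.1 O.2
  exact (noetherianSpace_set_iff _).mp hN _ (fun x hx => hx.1)

theorem main13422 {k : Type u} [Field k] [CharZero k] {S : Scheme.{u}}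
    (σ : S ⟶ Spec (CommRingCat.of k)) [IsLocallyNoetherian S] (S₀ : S.Opens)
    (hS₀ : CInt.IsSchematicallyDense S₀)
    (N : Over S) [Smooth N.hom]
    (hN : ∀ U : Over S, Etale U.hom →
      Function.Bijective (fun g : U ⟶ N => (Over.pullback S₀.ι).map g))
    (Z : Over S) [Smooth Z.hom] :
    Function.Injective (fun g : Z ⟶ N => (Over.pullback S₀.ι).map g) := by
  intro g g' hgg'
  dsimp only at hgg'
  have h0 : pullback.fst Z.hom S₀.ι ≫ g.left = pullback.fst Z.hom S₀.ι ≫ g'.left :=
    fst_comp_left_eq S₀ g g' hgg'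
  have hdense : CInt.IsSchematicallyDense (Z.hom ⁻¹ᵁ S₀) :=
    Groth.Agent.Helper2.SchDenseFlat.isSchematicallyDense_preimage_of_flat Z.hom S₀
      (isCompact_inf_of_isLocallyNoetherian S₀) hS₀
  have hab : (Z.hom ⁻¹ᵁ S₀).ι ≫ g.left = (Z.hom ⁻¹ᵁ S₀).ι ≫ g'.left := by
    have hr : Set.range (Z.hom ⁻¹ᵁ S₀).ι ⊆ Set.range (pullback.fst Z.hom S₀.ι) := by
      rw [Scheme.Pullback.range_fst, Scheme.Opens.range_ι, Scheme.Opens.range_ι]
      rfl
    have hfac := IsOpenImmersion.lift_fac (pullback.fst Z.hom S₀.ι) (Z.hom ⁻¹ᵁ S₀).ι hr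
    rw [← hfac, Category.assoc, Category.assoc, h0]
  have hopenA : ∀ z : Z.left, g.left z = g'.left z →
      ∃ W : Z.left.Opens, z ∈ W ∧ ∀ w ∈ W, g.left w = g'.left w := by
    intro z hz
    obtain ⟨W, hzW, hW⟩ := exists_open_eq Z.hom S₀ hdense g.left g'.left hab z hz
    refine ⟨W, hzW, fun w hw => ?_⟩
    have := congrArg (fun m : W.toScheme ⟶ N.left => m ⟨w, hw⟩) hW
    simpa using this
  have hpt : ∀ z : Z.left, g.left z = g'.left z := by
    by_contra hne
    push Not at hne
    obtain ⟨z₀, hz₀⟩ := hne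
    let s := Z.hom z₀
    let A : Set Z.left := {z | g.left z = g'.left z}
    have hAopen : IsOpen A := by
      rw [isOpen_iff_forall_mem_open]
      intro z hz
      obtain ⟨W, hzW, hW⟩ := hopenA z hz
      exact ⟨W, fun w hw => hW w hw, W.isOpen, hzW⟩
    let T : Set (Z.hom.fiber s) := (Z.hom.fiberι s) ⁻¹' Aᶜ
    have hTclosed : IsClosed T := (hAopen.isClosed_compl).preimage (Z.hom.fiberι s).continuous
    have hTne : T.Nonempty := by
      have : z₀ ∈ Set.range (Z.hom.fiberι s) := by
        rw [Scheme.Hom.range_fiberι]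
        rfl
      obtain ⟨y, hy⟩ := this
      exact ⟨y, by show Z.hom.fiberι s y ∈ Aᶜ; rw [hy]; exact hz₀⟩
    obtain ⟨y, hyT, hycl⟩ := nonempty_inter_closedPoints hTne hTclosed.isLocallyClosed
    apply hyT
    show g.left (Z.hom.fiberι s y) = g'.left (Z.hom.fiberι s y)
    haveI : LocallyOfFiniteType ((Z.hom.fiber s).fromSpecResidueField y) :=
      isClosed_singleton_iff_locallyOfFiniteType.mp hycl
    haveI : LocallyOfFiniteType (Z.hom.fiberToSpecResidueField s) :=
      MorphismProperty.pullback_snd _ _ inferInstance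
    let ξ := (Z.hom.fiber s).fromSpecResidueField y ≫ Z.hom.fiberToSpecResidueField s
    let φ : S.residueField s ⟶ (Z.hom.fiber s).residueField y := Spec.preimage ξ
    have hφ : Spec.map φ = ξ := Spec.map_preimage _
    haveI : LocallyOfFiniteType (Spec.map φ) := by rw [hφ]; infer_instance
    have hfin : IsFinite (Spec.map φ) :=
      (isFinite_iff_locallyOfFiniteType_of_jacobsonSpace).mpr inferInstance
    have halg : φ.hom.IsIntegral := ((IsFinite.SpecMap_iff φ).mp hfin).to_isIntegral
    haveI : CharZero (S.residueField s) := by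
      let ψ : CommRingCat.of k ⟶ S.residueField s :=
        Spec.preimage (S.fromSpecResidueField s ≫ σ)
      exact charZero_of_injective_ringHom ψ.hom.injective
    let ζ : Spec (CommRingCat.of ((Z.hom.fiber s).residueField y)) ⟶ Z.left :=
      (Z.hom.fiber s).fromSpecResidueField y ≫ Z.hom.fiberι s
    have hζ : ζ ≫ Z.hom = Spec.map φ ≫ S.fromSpecResidueField s := by
      rw [hφ]
      simp only [ζ, ξ, Category.assoc]
      rw [Scheme.Hom.fiber_fac]
    obtain ⟨S', h, u, ζ', hét, hu, hζ'⟩ :=
      exists_etale_quasiSection (F := (Z.hom.fiber s).residueField y) Z.hom ζ s φ hζ halg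
    let Uo : Over S := Over.mk h
    let uo : Uo ⟶ Z := Over.homMk u hu
    have hmap : (Over.pullback S₀.ι).map (uo ≫ g) = (Over.pullback S₀.ι).map (uo ≫ g') := by
      rw [Functor.map_comp, Functor.map_comp, hgg']
    have hug : uo ≫ g = uo ≫ g' := (hN Uo hét).1 hmap
    have hug' : u ≫ g.left = u ≫ g'.left := congrArg (fun m => m.left) hug
    have hζg : ζ ≫ g.left = ζ ≫ g'.left := by
      rw [← hζ', Category.assoc, Category.assoc, hug']
    have hpt0 : ζ (IsLocalRing.closedPoint _) = Z.hom.fiberι s y := by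
      simp only [ζ]
      rw [Scheme.Hom.comp_apply, Scheme.fromSpecResidueField_apply]
    have := congrArg (fun m => m (IsLocalRing.closedPoint _)) hζg
    simp only [Scheme.Hom.comp_apply] at this
    rw [hpt0] at this
    exact this
  apply Over.OverMorphism.ext
  choose W hzW hW using fun z =>
    exists_open_eq Z.hom S₀ hdense g.left g'.left hab z (hpt z)
  have hcov : IsOpenCover W := by
    rw [IsOpenCover, eq_top_iff]
    intro z _
    exact Opens.mem_iSup.mpr ⟨z, hzW z⟩
  exact (Z.left.openCoverOfIsOpenCover W hcov).hom_ext _ _ (fun z => hW z)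

end Groth.Agent.Helper2.QuasiSec
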